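import Groth.Agent.Lib.FibreFlat.Stalk
import Groth.Prelude.Def_CurvBase

/-!
# The local ring of a point on its fibre, as an algebra over the residue field
-/

set_option autoImplicit false
set_option linter.all false
set_option backward.isDefEq.respectTransparency false

universe u

open CategoryTheory Limits AlgebraicGeometry IsLocalRing TopologicalSpace Opposite

noncomputable section

namespace GrothLib.NodeCpl11

variable {T S : Scheme.{u}}

/-- Sections pulled back to the spectrum of a residue field are their values. -/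
theorem fromSpecResidueField_app (s : S) (U : S.Opens) (hU : s ∈ U) (b : Γ(S, U))
    (e : (⊤ : (Spec (S.residueField s)).Opens) ≤ (S.fromSpecResidueField s) ⁻¹ᵁ U) :
    ((S.fromSpecResidueField s).appLE U ⊤ e).hom b =
      (Scheme.ΓSpecIso (S.residueField s)).inv.hom (S.residue s (S.presheaf.germ U s hU b)) := by
  have hU' : (S.fromSpecResidueField s) (closedPoint (S.residueField s)) ∈ U := by
    rw [Scheme.fromSpecResidueField_apply]; exact hU
  haveI : IsLocalHom (S.residue s).hom := IsLocalHom.of_surjective _ IsLocalRing.residue_surjective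
  have h1 := Scheme.germ_stalkClosedPointTo_Spec_fromSpecStalk (S.residue s) U hU'
  have h2 := Scheme.germ_stalkClosedPointTo (S.fromSpecResidueField s) U hU'
  have h3 : (S.fromSpecResidueField s).appLE U ⊤ e =
      S.presheaf.germ U s hU ≫ S.residue s ≫ (Scheme.ΓSpecIso (S.residueField s)).inv := by
    rw [← Category.assoc]
    refine (Iso.eq_comp_inv _).2 ?_
    refine Eq.trans ?_ h1
    refine Eq.trans ?_ h2.symm
    rw [Scheme.Hom.appLE, Category.assoc]
    rfl
  rw [h3]
  rfl

/-- The local ring of a point maps onto the local ring on its fibre, compatibly with the residue field. -/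
theorem exists_fibreMap (f : T ⟶ S) (t : T) :
    letI : (f.fiber (f t)).Over (Spec (CommRingCat.of (S.residueField (f t)))) := ⟨f.fiberToSpecResidueField (f t)⟩
    ∃ φ : T.presheaf.stalk t →+* (f.fiber (f t)).presheaf.stalk (f.asFiber t),
      Function.Surjective φ ∧
      RingHom.ker φ = (maximalIdeal (S.presheaf.stalk (f t))).map (f.stalkMap t).hom ∧
      ∀ a, φ ((f.stalkMap t).hom a) =
        Curv2.stalkMap (S.residueField (f t)) (f.fiber (f t)) (f.asFiber t) (residue _ a) := by
  obtain ⟨hs, hk⟩ := GrothLib.FibreFlat.fiberι_stalkMap' f (f t) (f.asFiber t) t (f.fiberι_asFiber t)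
  refine ⟨_, hs, hk, fun a => ?_⟩
  obtain ⟨U, hU, b, rfl⟩ := S.presheaf.germ_exist a
  set z := f.asFiber t
  have hz : f (f.fiberι (f t) z) ∈ U := by rw [f.fiberι_asFiber]; exact hU
  have hU₁ : (S.fromSpecResidueField (f t)) (f.fiberToSpecResidueField (f t) z) ∈ U := by
    rw [Scheme.fromSpecResidueField_apply]; exact hU
  have e : (⊤ : (Spec (S.residueField (f t))).Opens) ≤ (S.fromSpecResidueField (f t)) ⁻¹ᵁ U := fun w _ => by
    show (S.fromSpecResidueField (f t)) w ∈ U
    rw [Scheme.fromSpecResidueField_apply]; exact hU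
  have e' : (⊤ : (f.fiber (f t)).Opens) ≤ (f.fiberι (f t) ≫ f) ⁻¹ᵁ U := fun w _ => by
    show (f.fiberι (f t) ≫ f) w ∈ U
    rw [f.fiber_fac, Scheme.Hom.comp_apply]
    exact e (show f.fiberToSpecResidueField (f t) w ∈ (⊤ : (Spec (S.residueField (f t))).Opens) from trivial)
  have hlhs : (((T.presheaf.stalkCongr (.of_eq (f.fiberι_asFiber t).symm)).hom ≫
      (f.fiberι (f t)).stalkMap z).hom) ((f.stalkMap t).hom (S.presheaf.germ U (f t) hU b)) =
      (f.fiber (f t)).presheaf.germ ⊤ z trivial (((f.fiberι (f t) ≫ f).appLE U ⊤ e').hom b) := by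
    rw [← RingHom.comp_apply, ← CommRingCat.hom_comp]
    have h := congrArg (fun g => g.hom b) (f.germ_stalkMap U t hU)
    simp only [CommRingCat.hom_comp, RingHom.comp_apply] at h ⊢
    erw [h]
    show ((f.fiberι (f t)).stalkMap z).hom ((T.presheaf.stalkCongr _).hom.hom
      (T.presheaf.germ (f ⁻¹ᵁ U) t hU ((f.app U).hom b))) = _
    rw [show (T.presheaf.stalkCongr (.of_eq (f.fiberι_asFiber t).symm)).hom.hom
        (T.presheaf.germ (f ⁻¹ᵁ U) t hU ((f.app U).hom b)) =
        T.presheaf.germ (f ⁻¹ᵁ U) (f.fiberι (f t) z) hz ((f.app U).hom b) from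
      congrArg (fun g => g.hom ((f.app U).hom b))
        (T.presheaf.germ_stalkSpecializes hU
          (show f.fiberι (f t) z ⤳ t by rw [f.fiberι_asFiber]))]
    have h' := congrArg (fun g => g.hom ((f.app U).hom b)) ((f.fiberι (f t)).germ_stalkMap (f ⁻¹ᵁ U) z hz)
    simp only [CommRingCat.hom_comp, RingHom.comp_apply] at h'
    refine h'.trans ?_
    rw [Scheme.Hom.appLE, Scheme.Hom.comp_app]
    exact (TopCat.Presheaf.germ_res_apply _ _ _ _ _).symm
  refine hlhs.trans ?_
  show _ = ((f.fiber (f t)).presheaf.germ ⊤ z trivial).hom ((f.fiberToSpecResidueField (f t)).appTop.hom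
    ((Scheme.ΓSpecIso (S.residueField (f t))).inv.hom (residue _ _)))
  refine congrArg _ ?_
  rw [← show ((S.fromSpecResidueField (f t)).appLE U ⊤ e).hom b =
      (Scheme.ΓSpecIso (S.residueField (f t))).inv.hom (residue _ (S.presheaf.germ U (f t) hU b))
    from fromSpecResidueField_app (f t) U hU b e, ← RingHom.comp_apply, ← CommRingCat.hom_comp]
  congr 2
  rw [show (f.fiberToSpecResidueField (f t)).appTop = (f.fiberToSpecResidueField (f t)).appLE ⊤ ⊤ le_top by
      exact Scheme.Hom.app_eq_appLE _, Scheme.Hom.appLE_comp_appLE]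
  congr 1
  exact f.fiber_fac (f t)

end GrothLib.NodeCpl11
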