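import Groth.Agent.Lib.NodeNF.Flat
import Groth.Agent.Lib.Ratliff.Completion
import Groth.Agent.Lib.CIPres.Completion
import Groth.Agent.Lib.GeomReg.FiniteGRing
import Groth.Agent.Lib.FibProp5.Completion
import Groth.Agent.Lib.RegLoc.PowerSeries
import Mathlib.RingTheory.AdicCompletion.Noetherian

/-!
# The completion of a flat family at a rational node of the fibre
-/

set_option autoImplicit false
set_option linter.all false
set_option backward.isDefEq.respectTransparency false

universe u

open IsLocalRing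

noncomputable section

namespace GrothLib.NodeCpl11

/-- A surjection of local rings gives a surjection of completions whose kernel is generated by the kernel. -/
theorem exists_completion_surjective {B C : Type u} [CommRing B] [IsLocalRing B] [IsNoetherianRing B]
    [CommRing C] [IsLocalRing C] [IsNoetherianRing C] (φ : B →+* C) (hφ : Function.Surjective φ) :
    ∃ π : AdicCompletion (maximalIdeal B) B →+* AdicCompletion (maximalIdeal C) C,
      Function.Surjective π ∧ (∀ b, π (algebraMap B _ b) = algebraMap C _ (φ b)) ∧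
      RingHom.ker π = (RingHom.ker φ).map (algebraMap B (AdicCompletion (maximalIdeal B) B)) := by
  set Bh := AdicCompletion (maximalIdeal B) B
  set Ch := AdicCompletion (maximalIdeal C) C
  letI : Algebra B C := φ.toAlgebra
  haveI : IsLocalHom (algebraMap B C) := IsLocalHom.of_surjective φ hφ
  obtain ⟨π, hπ⟩ := GrothLib.GeomReg.exists_completion_map B C
  have hπb : ∀ b, π (algebraMap B Bh b) = algebraMap C Ch (φ b) := fun b => RingHom.congr_fun hπ b
  haveI : IsAdicComplete (maximalIdeal Bh) Bh := by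
    rw [AdicCompletion.maximalIdeal_eq_map]
    exact AdicCompletion.isAdicComplete_self _ (maximalIdeal B).fg_of_isNoetherianRing
  have hle : (maximalIdeal Bh).map π ≤ maximalIdeal Ch := by
    rw [AdicCompletion.maximalIdeal_eq_map, AdicCompletion.maximalIdeal_eq_map, Ideal.map_map, hπ, ← Ideal.map_map]
    refine Ideal.map_mono (le_of_eq ?_)
    exact IsLocalRing.map_maximalIdeal_of_surjective φ hφ
  have hge : maximalIdeal Ch ≤ (maximalIdeal Bh).map π := by
    rw [AdicCompletion.maximalIdeal_eq_map, AdicCompletion.maximalIdeal_eq_map, Ideal.map_map, hπ, ← Ideal.map_map]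
    refine Ideal.map_mono (ge_of_eq ?_)
    exact IsLocalRing.map_maximalIdeal_of_surjective φ hφ
  have hs : Function.Surjective π := by
    refine (GrothLib.RegLoc.surjective_of_cotangent π (fun z => ?_) hle (le_sup_of_le_left hge)).1
    obtain ⟨r, rfl⟩ := (AdicCompletion.residueField_map_bijective C).2 z
    obtain ⟨c, rfl⟩ := residue_surjective r
    obtain ⟨b, rfl⟩ := hφ c
    exact ⟨algebraMap B Bh b, by
      show residue Ch (π (algebraMap B Bh b)) = _
      rw [hπb, ResidueField.map_residue]⟩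
  refine ⟨π, hs, hπb, ?_⟩
  set J := RingHom.ker φ
  have hJπ : J.map (algebraMap B Bh) ≤ RingHom.ker π := Ideal.map_le_iff_le_comap.2 fun b hb => by
    rw [Ideal.mem_comap, RingHom.mem_ker, hπb, RingHom.mem_ker.1 hb, map_zero]
  refine le_antisymm ?_ hJπ
  haveI : Nontrivial (B ⧸ J) := Ideal.Quotient.nontrivial_iff.2 (RingHom.ker_ne_top φ)
  haveI : IsLocalRing (B ⧸ J) := IsLocalRing.of_surjective' _ Ideal.Quotient.mk_surjective
  obtain ⟨e₁⟩ := GrothLib.CIPres.nonempty_completion_quotient J
  obtain ⟨e₂⟩ := GrothLib.Ratliff.exists_completion_congr (RingHom.quotientKerEquivOfSurjective hφ)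
  let π' : Bh ⧸ J.map (algebraMap B Bh) →+* Ch := Ideal.Quotient.lift _ π fun x hx => hJπ hx
  have hs' : Function.Surjective π' := fun y => by
    obtain ⟨x, rfl⟩ := hs y
    exact ⟨Ideal.Quotient.mk _ x, rfl⟩
  let E : Ch ≃+* Bh ⧸ J.map (algebraMap B Bh) := e₂.symm.trans e₁
  have hinj := GrothLib.NodeNF.ringEndo_injective_of_surjective (E.toRingHom.comp π') (E.surjective.comp hs')
  intro x hx
  rw [← Ideal.Quotient.eq_zero_iff_mem]
  refine hinj ?_
  rw [map_zero]
  show E (π' (Ideal.Quotient.mk _ x)) = 0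
  rw [Ideal.Quotient.lift_mk, RingHom.mem_ker.1 hx, map_zero]

/-- The completion of a flat family at a split node of the fibre. -/
theorem exists_equiv_split (A B : Type u) [CommRing A] [IsLocalRing A] [IsNoetherianRing A]
    [CommRing B] [IsLocalRing B] [IsNoetherianRing B] [Algebra A B] [IsLocalHom (algebraMap A B)] [Module.Flat A B]
    (C : Type u) [CommRing C] [IsLocalRing C] [IsNoetherianRing C] (φ : B →+* C) (hφ : Function.Surjective φ)
    (hker : RingHom.ker φ = (maximalIdeal A).map (algebraMap A B))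
    (σ : ResidueField A →+* C) (hσ : ∀ a, φ (algebraMap A B a) = σ (residue A a))
    (e : AdicCompletion (maximalIdeal C) C ≃+*
      (MvPowerSeries (Fin 2) (ResidueField A) ⧸
        Ideal.span {(MvPowerSeries.X 0 * MvPowerSeries.X 1 : MvPowerSeries (Fin 2) (ResidueField A))}))
    (he : ∀ r, e (algebraMap C _ (σ r)) = Ideal.Quotient.mk _ (MvPowerSeries.C r)) :
    ∃ h ∈ maximalIdeal (AdicCompletion (maximalIdeal A) A),
      ∃ e' : AdicCompletion (maximalIdeal B) B ≃+*
          (MvPowerSeries (Fin 2) (AdicCompletion (maximalIdeal A) A) ⧸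
            Ideal.span {(MvPowerSeries.X 0 * MvPowerSeries.X 1 - MvPowerSeries.C h :
              MvPowerSeries (Fin 2) (AdicCompletion (maximalIdeal A) A))}),
        ∀ a, e' (algebraMap B _ (algebraMap A B a)) =
          Ideal.Quotient.mk _ (MvPowerSeries.C (algebraMap A (AdicCompletion (maximalIdeal A) A) a)) := by
  set Ah := AdicCompletion (maximalIdeal A) A
  set Bh := AdicCompletion (maximalIdeal B) B
  set Ch := AdicCompletion (maximalIdeal C) C
  set k := ResidueField A
  obtain ⟨_, _⟩ := GrothLib.FibProp5.exists_completion_algebra A B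
  haveI : IsAdicComplete (maximalIdeal Bh) Bh := by
    rw [AdicCompletion.maximalIdeal_eq_map]
    exact AdicCompletion.isAdicComplete_self _ (maximalIdeal B).fg_of_isNoetherianRing
  obtain ⟨π, hπs, hπb, hπker⟩ := exists_completion_surjective φ hφ
  have hI : RingHom.ker π = (maximalIdeal Ah).map (algebraMap Ah Bh) := by
    rw [hπker, hker, GrothLib.NodeNF.map_maximal A B, IsScalarTower.algebraMap_eq A B Bh, ← Ideal.map_map]
  let χ := e.toRingHom.comp π
  have hχs : Function.Surjective χ := e.surjective.comp hπs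
  have hχker : RingHom.ker χ = RingHom.ker π := by
    ext x
    simp [χ, RingHom.mem_ker]
  have hχa : ∀ a, χ (algebraMap B Bh (algebraMap A B a)) = Ideal.Quotient.mk _ (MvPowerSeries.C (residue A a)) := by
    intro a
    show e (π _) = _
    rw [hπb, hσ, he]
  obtain ⟨u, hu⟩ := hχs (Ideal.Quotient.mk _ (MvPowerSeries.X 0))
  obtain ⟨v, hv⟩ := hχs (Ideal.Quotient.mk _ (MvPowerSeries.X 1))
  have huv : u * v ∈ (maximalIdeal Ah).map (algebraMap Ah Bh) := by
    rw [← hI, ← hχker, RingHom.mem_ker, map_mul, hu, hv, ← map_mul, Ideal.Quotient.eq_zero_iff_mem]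
    exact Ideal.mem_span_singleton_self _
  haveI : Nontrivial (MvPowerSeries (Fin 2) k ⧸
      Ideal.span {(MvPowerSeries.X 0 * MvPowerSeries.X 1 : MvPowerSeries (Fin 2) k)}) := e.symm.toEquiv.nontrivial
  haveI : IsLocalRing (MvPowerSeries (Fin 2) k ⧸
      Ideal.span {(MvPowerSeries.X 0 * MvPowerSeries.X 1 : MvPowerSeries (Fin 2) k)}) :=
    IsLocalRing.of_surjective' _ Ideal.Quotient.mk_surjective
  have hmax : ∀ x : Bh, x ∈ maximalIdeal Bh ↔ χ x ∈ maximalIdeal _ := fun x => by
    haveI : IsLocalHom χ := IsLocalHom.of_surjective χ hχs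
    simp only [mem_maximalIdeal, mem_nonunits_iff]
    exact not_congr ⟨fun h => h.map χ, fun h => isUnit_of_map_unit χ x h⟩
  have hgen : maximalIdeal Bh = Ideal.span {u, v} ⊔ (maximalIdeal Ah).map (algebraMap Ah Bh) := by
    have h1 : (maximalIdeal (MvPowerSeries (Fin 2) k)).map (Ideal.Quotient.mk
        (Ideal.span {(MvPowerSeries.X 0 * MvPowerSeries.X 1 : MvPowerSeries (Fin 2) k)})) = (Ideal.span {u, v}).map χ := by
      rw [Ideal.map_span, Set.image_pair, hu, hv, ← GrothLib.RegLoc.PS.span_X k, Ideal.map_span]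
      congr 1
      ext x
      simp [Fin.exists_fin_two, eq_comm]
      rfl
    rw [← hI, ← hχker]
    refine le_antisymm (fun x hx => ?_) (sup_le (fun x hx => ?_) ?_)
    · have h2 := (hmax x).1 hx
      rw [← IsLocalRing.map_maximalIdeal_of_surjective _ Ideal.Quotient.mk_surjective, h1] at h2
      rw [← Ideal.comap_map_of_surjective' χ hχs]
      exact h2
    · refine (hmax x).2 ?_
      rw [← IsLocalRing.map_maximalIdeal_of_surjective _ Ideal.Quotient.mk_surjective, h1]
      exact Ideal.mem_map_of_mem _ hx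
    · exact IsLocalRing.le_maximalIdeal (RingHom.ker_ne_top χ)
  have hres : ∀ y : Bh, ∃ c : Ah, y - algebraMap Ah Bh c ∈ maximalIdeal Bh := by
    intro y
    obtain ⟨f, hf⟩ := Ideal.Quotient.mk_surjective (χ y)
    obtain ⟨a, ha⟩ := residue_surjective (MvPowerSeries.constantCoeff f)
    refine ⟨algebraMap A Ah a, (hmax _).2 ?_⟩
    rw [map_sub, ← IsScalarTower.algebraMap_apply, IsScalarTower.algebraMap_apply A B Bh, hχa, ← hf, ← map_sub,
      ← IsLocalRing.map_maximalIdeal_of_surjective _ Ideal.Quotient.mk_surjective]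
    refine Ideal.mem_map_of_mem _ ((GrothLib.RegLoc.PS.mem_max k).2 ?_)
    rw [map_sub, MvPowerSeries.constantCoeff_C, ha, sub_self]
  obtain ⟨u', v', α, hα, hu', hv', huv'⟩ := GrothLib.NodeNF.exists_normal_form hres huv hgen
  have hgen' : maximalIdeal Bh = Ideal.span {u', v'} ⊔ (maximalIdeal Ah).map (algebraMap Ah Bh) := by
    rw [GrothLib.NodeNF.span_pair_sup_eq hu' hv']; exact hgen
  obtain ⟨ψ, h0, h1, hψs⟩ := GrothLib.NodeNF.exists_surjective hres hgen'
  have hψ0 : ψ (MvPowerSeries.X 0 * MvPowerSeries.X 1 - MvPowerSeries.C α) = 0 := by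
    rw [map_sub, map_mul, h0, h1, huv', sub_eq_zero,
      show MvPowerSeries.C α = algebraMap Ah (MvPowerSeries (Fin 2) Ah) α from rfl, ψ.commutes]
  let ψq := Ideal.Quotient.liftₐ (Ideal.span
      {(MvPowerSeries.X 0 * MvPowerSeries.X 1 - MvPowerSeries.C α : MvPowerSeries (Fin 2) Ah)}) ψ
    (fun a ha => by
      obtain ⟨c, rfl⟩ := Ideal.mem_span_singleton'.1 ha
      rw [map_mul, hψ0, mul_zero])
  have hsq : Function.Surjective ψq := fun y => by
    obtain ⟨x, rfl⟩ := hψs y
    exact ⟨Ideal.Quotient.mk _ x, rfl⟩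
  haveI : Nontrivial (B ⧸ (maximalIdeal A).map (algebraMap A B)) :=
    Ideal.Quotient.nontrivial_iff.2 (hker ▸ RingHom.ker_ne_top φ)
  haveI : IsLocalRing (B ⧸ (maximalIdeal A).map (algebraMap A B)) :=
    IsLocalRing.of_surjective' _ Ideal.Quotient.mk_surjective
  obtain ⟨ec⟩ := GrothLib.Ratliff.exists_completion_congr
    ((Ideal.quotEquivOfEq hker.symm).trans (RingHom.quotientKerEquivOfSurjective hφ))
  have hm : maximalIdeal (B ⧸ (maximalIdeal A).map (algebraMap A B)) =
      (maximalIdeal B).map (Ideal.Quotient.mk ((maximalIdeal A).map (algebraMap A B))) :=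
    (IsLocalRing.map_maximalIdeal_of_surjective _ Ideal.Quotient.mk_surjective).symm
  obtain ⟨eF⟩ : Nonempty (AdicCompletion ((maximalIdeal B).map (Ideal.Quotient.mk
      ((maximalIdeal A).map (algebraMap A B)))) (B ⧸ (maximalIdeal A).map (algebraMap A B)) ≃+*
      (MvPowerSeries (Fin 2) k ⧸
        Ideal.span {(MvPowerSeries.X 0 * MvPowerSeries.X 1 : MvPowerSeries (Fin 2) k)})) := by
    rw [← hm]
    exact ⟨ec.trans e⟩
  have hbij := GrothLib.NodeNF.exists_node_equiv A B eF hα ψq hsq
  refine ⟨α, hα, (RingEquiv.ofBijective ψq hbij).symm, fun a => (RingEquiv.ofBijective ψq hbij).injective ?_⟩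
  rw [RingEquiv.apply_symm_apply]
  show _ = ψq (algebraMap Ah _ (algebraMap A Ah a))
  rw [ψq.commutes, ← IsScalarTower.algebraMap_apply, ← IsScalarTower.algebraMap_apply]

end GrothLib.NodeCpl11
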