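import Groth.Agent.Lib.NodeCpl11.QuadStep
import Groth.Agent.Lib.NodeCpl11.Split

/-!
# The completion of a flat family at a node with a quadratic form
-/

set_option autoImplicit false
set_option linter.all false
set_option backward.isDefEq.respectTransparency false

universe u

open IsLocalRing

noncomputable section

namespace GrothLib.NodeCpl11

/-- The special fibre of an equation `F`. -/
theorem ker_le_of_surjective_fibre' {R : Type u} [CommRing R] [IsLocalRing R] [IsNoetherianRing R]
    {k : Type u} [Field k] (res : R →+* k) (hres : Function.Surjective res)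
    (hres' : RingHom.ker res = maximalIdeal R) (F : MvPowerSeries (Fin 2) R) (G : MvPowerSeries (Fin 2) k)
    (hFG : MvPowerSeries.map (σ := Fin 2) res F = G)
    (χ : MvPowerSeries (Fin 2) R →+* (MvPowerSeries (Fin 2) k ⧸ Ideal.span {G}))
    (hχs : Function.Surjective χ) (hχC : ∀ a ∈ maximalIdeal R, χ (MvPowerSeries.C a) = 0)
    (hχ : χ F = 0) :
    RingHom.ker χ ≤ (maximalIdeal R).map MvPowerSeries.C ⊔ Ideal.span {F} := by
  set J := (maximalIdeal R).map (MvPowerSeries.C (σ := Fin 2)) ⊔ Ideal.span {F} with hJ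
  let red := MvPowerSeries.map (σ := Fin 2) res
  have hred : Function.Surjective red := by
    intro g
    choose c hc using fun e => hres (MvPowerSeries.coeff e g)
    refine ⟨(show MvPowerSeries (Fin 2) R from c), MvPowerSeries.ext fun e => ?_⟩
    rw [MvPowerSeries.coeff_map]
    exact hc e
  let ρ := (Ideal.Quotient.mk (Ideal.span {G})).comp red
  have hρ : Function.Surjective ρ := Ideal.Quotient.mk_surjective.comp hred
  have hker : RingHom.ker ρ ≤ J := fun x hx => by
    rw [RingHom.mem_ker, RingHom.comp_apply, Ideal.Quotient.eq_zero_iff_mem,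
      Ideal.mem_span_singleton'] at hx
    obtain ⟨c, hc⟩ := hx
    obtain ⟨c', rfl⟩ := hred c
    have h0 : red (x - c' * F) = 0 := by
      rw [map_sub, map_mul, show red F = G from hFG]
      exact sub_eq_zero.2 hc.symm
    have h1 : x - c' * F ∈ (maximalIdeal R).map (MvPowerSeries.C (σ := Fin 2)) :=
      GrothLib.RamSam.mem_map_C (IsNoetherian.noetherian _) fun e => by
        rw [← hres', RingHom.mem_ker, ← MvPowerSeries.coeff_map]
        show MvPowerSeries.coeff e (red _) = 0
        rw [h0, map_zero]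
    have := add_mem (Ideal.mem_sup_left (T := Ideal.span {_}) h1) (Ideal.mem_sup_right
      (Ideal.mul_mem_left _ c' (Ideal.mem_span_singleton_self F)))
    simpa [hJ] using this
  have hJχ : J ≤ RingHom.ker χ := by
    refine sup_le (Ideal.map_le_iff_le_comap.2 fun a ha => hχC a ha) ?_
    rw [Ideal.span_singleton_le_iff_mem]
    exact hχ
  let χ' := RingHom.liftOfSurjective ρ hρ ⟨χ, hker.trans hJχ⟩
  have hcomp : ∀ x, χ' (ρ x) = χ x := fun x =>
    RingHom.liftOfRightInverse_comp_apply _ _ _ _ _
  have hs' : Function.Surjective χ' := fun y => by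
    obtain ⟨x, rfl⟩ := hχs y
    exact ⟨ρ x, hcomp x⟩
  have hinj := GrothLib.NodeNF.ringEndo_injective_of_surjective χ' hs'
  intro x hx
  refine hker ?_
  rw [RingHom.mem_ker] at hx ⊢
  exact hinj (by rw [hcomp, hx, map_zero])

/-- The completion of a flat family at a node of the fibre with a quadratic form. -/
theorem exists_equiv_quad (A B : Type u) [CommRing A] [IsLocalRing A] [IsNoetherianRing A]
    [CommRing B] [IsLocalRing B] [IsNoetherianRing B] [Algebra A B] [IsLocalHom (algebraMap A B)] [Module.Flat A B]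
    (C : Type u) [CommRing C] [IsLocalRing C] [IsNoetherianRing C] (φ : B →+* C) (hφ : Function.Surjective φ)
    (hker : RingHom.ker φ = (maximalIdeal A).map (algebraMap A B))
    (σ : ResidueField A →+* C) (hσ : ∀ a, φ (algebraMap A B a) = σ (residue A a))
    (a₀ b₀ c₀ : ResidueField A) (hd : b₀ ^ 2 - 4 * a₀ * c₀ ≠ 0)
    (G : MvPowerSeries (Fin 2) (ResidueField A))
    (hG : G = MvPowerSeries.C a₀ * MvPowerSeries.X 0 ^ 2 + MvPowerSeries.C b₀ * MvPowerSeries.X 0 * MvPowerSeries.X 1 +
      MvPowerSeries.C c₀ * MvPowerSeries.X 1 ^ 2)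
    (e : AdicCompletion (maximalIdeal C) C ≃+* (MvPowerSeries (Fin 2) (ResidueField A) ⧸ Ideal.span {G}))
    (he : ∀ r, e (algebraMap C _ (σ r)) = Ideal.Quotient.mk _ (MvPowerSeries.C r)) :
    ∃ a b c : AdicCompletion (maximalIdeal A) A, IsUnit (b ^ 2 - 4 * a * c) ∧
    ∃ h ∈ maximalIdeal (AdicCompletion (maximalIdeal A) A),
      ∃ e' : AdicCompletion (maximalIdeal B) B ≃+*
          (MvPowerSeries (Fin 2) (AdicCompletion (maximalIdeal A) A) ⧸
            Ideal.span {(MvPowerSeries.C a * MvPowerSeries.X 0 ^ 2 + MvPowerSeries.C b * MvPowerSeries.X 0 * MvPowerSeries.X 1 +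
              MvPowerSeries.C c * MvPowerSeries.X 1 ^ 2 - MvPowerSeries.C h :
              MvPowerSeries (Fin 2) (AdicCompletion (maximalIdeal A) A))}),
        ∀ r, e' (algebraMap B _ (algebraMap A B r)) =
          Ideal.Quotient.mk _ (MvPowerSeries.C (algebraMap A (AdicCompletion (maximalIdeal A) A) r)) := by
  set Ah := AdicCompletion (maximalIdeal A) A
  set Bh := AdicCompletion (maximalIdeal B) B
  set Ch := AdicCompletion (maximalIdeal C) C
  obtain ⟨_, _⟩ := GrothLib.FibProp5.exists_completion_algebra A B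
  haveI : IsAdicComplete (maximalIdeal Bh) Bh := by
    rw [AdicCompletion.maximalIdeal_eq_map]
    exact AdicCompletion.isAdicComplete_self _ (maximalIdeal B).fg_of_isNoetherianRing
  obtain ⟨π, hπs, hπb, hπker⟩ := exists_completion_surjective φ hφ
  have hI : RingHom.ker π = (maximalIdeal Ah).map (algebraMap Ah Bh) := by
    rw [hπker, hker, GrothLib.NodeNF.map_maximal A B, IsScalarTower.algebraMap_eq A B Bh, ← Ideal.map_map]
  let χ := e.toRingHom.comp π
  have hχs : Function.Surjective χ := e.surjective.comp hπs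
  have hχker : RingHom.ker χ = RingHom.ker π := by
    ext x
    simp [χ, RingHom.mem_ker]
  have hχa : ∀ a, χ (algebraMap B Bh (algebraMap A B a)) = Ideal.Quotient.mk _ (MvPowerSeries.C (residue A a)) := by
    intro a
    show e (π _) = _
    rw [hπb, hσ, he]
  obtain ⟨a', ha'⟩ := residue_surjective a₀
  obtain ⟨b', hb'⟩ := residue_surjective b₀
  obtain ⟨c', hc'⟩ := residue_surjective c₀
  set a := algebraMap A Ah a'
  set b := algebraMap A Ah b'
  set c := algebraMap A Ah c'
  have hdu : IsUnit (b ^ 2 - 4 * a * c) := by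
    have h1 : IsUnit (b' ^ 2 - 4 * a' * c') := by
      rw [← residue_ne_zero_iff_isUnit, map_sub, map_pow, map_mul, map_mul, map_ofNat, ha', hb', hc']
      exact hd
    have h2 := h1.map (algebraMap A Ah)
    rwa [map_sub, map_pow, map_mul, map_mul, map_ofNat] at h2
  have hχA : ∀ x, χ (algebraMap Ah Bh (algebraMap A Ah x)) = Ideal.Quotient.mk _ (MvPowerSeries.C (residue A x)) := fun x => by
    rw [← IsScalarTower.algebraMap_apply, IsScalarTower.algebraMap_apply A B Bh, hχa]
  obtain ⟨u, hu⟩ := hχs (Ideal.Quotient.mk _ (MvPowerSeries.X 0))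
  obtain ⟨v, hv⟩ := hχs (Ideal.Quotient.mk _ (MvPowerSeries.X 1))
  have huv : qf a b c u v ∈ (maximalIdeal Ah).map (algebraMap Ah Bh) := by
    rw [← hI, ← hχker, RingHom.mem_ker, qf]
    simp only [map_add, map_mul, map_pow, a, b, c]
    rw [hχA, hχA, hχA, hu, hv, ha', hb', hc']
    rw [← map_pow, ← map_pow, ← map_mul, ← map_mul, ← map_mul, ← map_mul, ← map_add, ← map_add,
      Ideal.Quotient.eq_zero_iff_mem]
    convert Ideal.mem_span_singleton_self G using 1
    rw [hG]; ring
  haveI : Nontrivial (MvPowerSeries (Fin 2) (ResidueField A) ⧸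
      Ideal.span {G}) := e.symm.toEquiv.nontrivial
  haveI : IsLocalRing (MvPowerSeries (Fin 2) (ResidueField A) ⧸
      Ideal.span {G}) :=
    IsLocalRing.of_surjective' _ Ideal.Quotient.mk_surjective
  have hmax : ∀ x : Bh, x ∈ maximalIdeal Bh ↔ χ x ∈ maximalIdeal _ := fun x => by
    haveI : IsLocalHom χ := IsLocalHom.of_surjective χ hχs
    simp only [mem_maximalIdeal, mem_nonunits_iff]
    exact not_congr ⟨fun h => h.map χ, fun h => isUnit_of_map_unit χ x h⟩
  have hgen : maximalIdeal Bh = Ideal.span {u, v} ⊔ (maximalIdeal Ah).map (algebraMap Ah Bh) := by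
    have h1 : (maximalIdeal (MvPowerSeries (Fin 2) (ResidueField A))).map (Ideal.Quotient.mk
        (Ideal.span {G})) = (Ideal.span {u, v}).map χ := by
      rw [Ideal.map_span, Set.image_pair, hu, hv, ← GrothLib.RegLoc.PS.span_X (ResidueField A), Ideal.map_span]
      congr 1
      ext x
      simp [Fin.exists_fin_two, eq_comm]
    rw [← hI, ← hχker]
    refine le_antisymm (fun x hx => ?_) (sup_le (fun x hx => ?_) ?_)
    · have h2 := (hmax x).1 hx
      rw [← IsLocalRing.map_maximalIdeal_of_surjective _ Ideal.Quotient.mk_surjective, h1] at h2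
      rw [← Ideal.comap_map_of_surjective' χ hχs]
      exact h2
    · refine (hmax x).2 ?_
      rw [← IsLocalRing.map_maximalIdeal_of_surjective _ Ideal.Quotient.mk_surjective, h1]
      exact Ideal.mem_map_of_mem _ hx
    · exact IsLocalRing.le_maximalIdeal (RingHom.ker_ne_top χ)
  have hres : ∀ y : Bh, ∃ c : Ah, y - algebraMap Ah Bh c ∈ maximalIdeal Bh := by
    intro y
    obtain ⟨f, hf⟩ := Ideal.Quotient.mk_surjective (χ y)
    obtain ⟨a, ha⟩ := residue_surjective (MvPowerSeries.constantCoeff f)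
    refine ⟨algebraMap A Ah a, (hmax _).2 ?_⟩
    rw [map_sub, ← IsScalarTower.algebraMap_apply, IsScalarTower.algebraMap_apply A B Bh, hχa, ← hf, ← map_sub,
      ← IsLocalRing.map_maximalIdeal_of_surjective _ Ideal.Quotient.mk_surjective]
    refine Ideal.mem_map_of_mem _ ((GrothLib.RegLoc.PS.mem_max (ResidueField A)).2 ?_)
    rw [map_sub, MvPowerSeries.constantCoeff_C, ha, sub_self]
  obtain ⟨u', v', α, hα, hu', hv', huv'⟩ := exists_quadratic_normal_form hres hdu huv hgen
  have hgen' : maximalIdeal Bh = Ideal.span {u', v'} ⊔ (maximalIdeal Ah).map (algebraMap Ah Bh) := by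
    rw [GrothLib.NodeNF.span_pair_sup_eq hu' hv']; exact hgen
  obtain ⟨ψ, h0, h1, hψs⟩ := GrothLib.NodeNF.exists_surjective hres hgen'
  set F : MvPowerSeries (Fin 2) Ah := MvPowerSeries.C a * MvPowerSeries.X 0 ^ 2 +
    MvPowerSeries.C b * MvPowerSeries.X 0 * MvPowerSeries.X 1 + MvPowerSeries.C c * MvPowerSeries.X 1 ^ 2 -
      MvPowerSeries.C α with hF
  have hψC : ∀ x, ψ (MvPowerSeries.C x) = algebraMap Ah Bh x := fun x => by
    rw [show MvPowerSeries.C x = algebraMap Ah (MvPowerSeries (Fin 2) Ah) x from rfl, ψ.commutes]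
  have hψ0 : ψ F = 0 := by
    simp only [hF, map_sub, map_add, map_mul, map_pow, h0, h1, hψC]
    rw [← huv', qf]; ring
  let ψq := Ideal.Quotient.liftₐ (Ideal.span {F}) ψ
    (fun x hx => by
      obtain ⟨y, rfl⟩ := Ideal.mem_span_singleton'.1 hx
      rw [map_mul, hψ0, mul_zero])
  have hsq : Function.Surjective ψq := fun y => by
    obtain ⟨x, rfl⟩ := hψs y
    exact ⟨Ideal.Quotient.mk _ x, rfl⟩
  have hflat : Module.Flat Ah Bh := RingHom.flat_algebraMap_iff.1
    ((GrothLib.AdicExtra.flat_completion_iff (algebraMap Ah Bh)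
      (((IsScalarTower.algebraMap_eq A Ah Bh).symm).trans (IsScalarTower.algebraMap_eq A B Bh))).2
      (RingHom.flat_algebraMap_iff.2 inferInstance))
  let e0 := RingEquiv.ofBijective _ (AdicCompletion.residueField_map_bijective A)
  let res : Ah →+* (ResidueField A) := e0.symm.toRingHom.comp (residue Ah)
  have hres₁ : Function.Surjective res := e0.symm.surjective.comp residue_surjective
  have hres₂ : RingHom.ker res = maximalIdeal Ah := by
    ext x
    rw [RingHom.mem_ker, RingHom.comp_apply, ← residue_eq_zero_iff]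
    exact map_eq_zero_iff _ e0.symm.injective
  have hresA : ∀ x, res (algebraMap A Ah x) = residue A x := fun x => e0.injective (by
    show e0 (e0.symm _) = _
    rw [RingEquiv.apply_symm_apply]
    rfl)
  have hFG : MvPowerSeries.map (σ := Fin 2) res F = G := by
    simp only [hF, hG, map_sub, map_add, map_mul, map_pow, MvPowerSeries.map_X, MvPowerSeries.map_C, a, b, c, hresA,
      ha', hb', hc', RingHom.mem_ker.1 (hres₂.symm ▸ hα : α ∈ RingHom.ker res), map_zero, sub_zero]
  have hk := ker_le_of_surjective_fibre' res hres₁ hres₂ F G hFG (χ.comp ψ.toRingHom)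
    (hχs.comp hψs) (fun x hx => by
      show χ (ψ (MvPowerSeries.C x)) = 0
      rw [hψC, ← RingHom.mem_ker, hχker, hI]
      exact Ideal.mem_map_of_mem _ hx)
    (by show χ (ψ F) = 0; rw [hψ0, map_zero])
  haveI : Nontrivial (MvPowerSeries (Fin 2) Ah ⧸ Ideal.span {F}) := ψq.toRingHom.domain_nontrivial
  haveI : IsLocalRing (MvPowerSeries (Fin 2) Ah ⧸ Ideal.span {F}) :=
    IsLocalRing.of_surjective' _ Ideal.Quotient.mk_surjective
  have hle : (maximalIdeal Ah).map (algebraMap Ah (MvPowerSeries (Fin 2) Ah ⧸ Ideal.span {F})) ≤ maximalIdeal _ := by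
    rw [Ideal.map_le_iff_le_comap]
    intro x hx
    rw [Ideal.mem_comap, ← IsLocalRing.map_maximalIdeal_of_surjective _ Ideal.Quotient.mk_surjective]
    refine Ideal.mem_map_of_mem (Ideal.Quotient.mk _) ((mem_maximalIdeal (MvPowerSeries.C x)).2 fun h => ?_)
    rw [MvPowerSeries.isUnit_iff_constantCoeff, MvPowerSeries.constantCoeff_C] at h
    exact hx h
  have hker' : RingHom.ker ψq ≤ (maximalIdeal Ah).map (algebraMap Ah _) := fun q hq => by
    obtain ⟨x, rfl⟩ := Ideal.Quotient.mk_surjective q
    have hx : x ∈ RingHom.ker (χ.comp ψ.toRingHom) := by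
      show χ (ψ x) = 0
      rw [show ψ x = ψq (Ideal.Quotient.mk _ x) from rfl, RingHom.mem_ker.1 hq, map_zero]
    have h5 := Ideal.mem_map_of_mem (Ideal.Quotient.mk (Ideal.span {F})) (hk hx)
    rw [Ideal.map_sup, Ideal.map_quotient_self, sup_bot_eq, Ideal.map_map] at h5
    exact h5
  have hbot := GrothLib.NodeNF.ker_eq_bot_of_flat (maximalIdeal Ah) hle ψq hsq hker'
  have hbij : Function.Bijective ψq := ⟨(RingHom.injective_iff_ker_eq_bot ψq).2 hbot, hsq⟩
  refine ⟨a, b, c, hdu, α, hα, (RingEquiv.ofBijective ψq hbij).symm, fun r => (RingEquiv.ofBijective ψq hbij).injective ?_⟩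
  rw [RingEquiv.apply_symm_apply]
  show _ = ψq (algebraMap Ah _ (algebraMap A Ah r))
  rw [ψq.commutes, ← IsScalarTower.algebraMap_apply, ← IsScalarTower.algebraMap_apply]

end GrothLib.NodeCpl11
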