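import Groth.Agent.Lib.NodeNF.Basic

/-!
# Normal form of a quadratic node over a complete local ring
-/

set_option autoImplicit false
set_option linter.all false

universe u

open IsLocalRing

noncomputable section

namespace GrothLib.NodeCpl11

variable {R S : Type u} [CommRing R] [IsLocalRing R] [CommRing S] [IsLocalRing S] [IsNoetherianRing S]
  [Algebra R S] [IsNoetherianRing R] [IsAdicComplete (maximalIdeal R) R]

/-- The quadratic form with constants from the base. -/
def qf (a b c : R) (u v : S) : S :=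
  algebraMap R S a * u ^ 2 + algebraMap R S b * (u * v) + algebraMap R S c * v ^ 2

theorem qf_step (hres : ∀ y : S, ∃ c : R, y - algebraMap R S c ∈ maximalIdeal S) {u v u₀ v₀ : S}
    (hgen : maximalIdeal S = Ideal.span {u₀, v₀} ⊔ (maximalIdeal R).map (algebraMap R S))
    (hu : u - u₀ ∈ (maximalIdeal R).map (algebraMap R S))
    (hv : v - v₀ ∈ (maximalIdeal R).map (algebraMap R S)) {a b c : R} (hd : IsUnit (b ^ 2 - 4 * a * c))
    {α : R} {n : ℕ} (h : qf a b c u v - algebraMap R S α ∈ (maximalIdeal R ^ (n + 1)).map (algebraMap R S)) :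
    ∃ (u' v' : S) (α' : R), u' - u ∈ (maximalIdeal R ^ (n + 1)).map (algebraMap R S) ∧
      v' - v ∈ (maximalIdeal R ^ (n + 1)).map (algebraMap R S) ∧ α' - α ∈ maximalIdeal R ^ (n + 1) ∧
      qf a b c u' v' - algebraMap R S α' ∈ (maximalIdeal R ^ (n + 1 + 1)).map (algebraMap R S) := by
  have hgen' : maximalIdeal S = Ideal.span {u, v} ⊔ (maximalIdeal R).map (algebraMap R S) := by
    rw [GrothLib.NodeNF.span_pair_sup_eq hu hv]; exact hgen
  obtain ⟨e, he, g, hg, k, hk, hz⟩ := GrothLib.NodeNF.exists_decomp_of_mem hres hgen' _ h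
  obtain ⟨d, hd'⟩ := hd
  set A := algebraMap R S a
  set B := algebraMap R S b
  set C := algebraMap R S c
  set D := algebraMap R S (↑d⁻¹ : R)
  have hinv : D * (B ^ 2 - 4 * A * C) = 1 := by
    have h1 := congrArg (algebraMap R S) (Units.inv_mul d)
    rw [hd'] at h1
    simpa [map_sub, map_mul, map_pow, map_ofNat] using h1
  set du := D * (2 * C * g - B * k)
  set dv := D * (2 * A * k - B * g)
  have hdu : du ∈ (maximalIdeal R ^ (n + 1)).map (algebraMap R S) :=
    Ideal.mul_mem_left _ _ (sub_mem (Ideal.mul_mem_left _ _ hg) (Ideal.mul_mem_left _ _ hk))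
  have hdv : dv ∈ (maximalIdeal R ^ (n + 1)).map (algebraMap R S) :=
    Ideal.mul_mem_left _ _ (sub_mem (Ideal.mul_mem_left _ _ hk) (Ideal.mul_mem_left _ _ hg))
  refine ⟨u + du, v + dv, α + e, by simpa using hdu, by simpa using hdv, by simpa using he, ?_⟩
  have hkey : qf a b c (u + du) (v + dv) - algebraMap R S (α + e) = A * du ^ 2 + B * (du * dv) + C * dv ^ 2 := by
    have e1 : 2 * A * du + B * dv = -g := by
      simp only [du, dv]
      linear_combination (-g) * hinv
    have e2 : B * du + 2 * C * dv = -k := by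
      simp only [du, dv]
      linear_combination (-k) * hinv
    rw [map_add]
    simp only [qf] at hz ⊢
    linear_combination hz + u * e1 + v * e2
  rw [hkey]
  have h2 : ∀ s ∈ (maximalIdeal R ^ (n + 1)).map (algebraMap R S),
      ∀ t ∈ (maximalIdeal R ^ (n + 1)).map (algebraMap R S),
      s * t ∈ (maximalIdeal R ^ (n + 1 + 1)).map (algebraMap R S) := fun s hs t ht => by
    have h2 := Ideal.mul_mem_mul hs ht
    rw [← Ideal.map_mul, ← pow_add] at h2
    exact Ideal.map_mono (Ideal.pow_le_pow_right (by omega)) h2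
  rw [pow_two, pow_two]
  exact add_mem (add_mem (Ideal.mul_mem_left _ _ (h2 _ hdu _ hdu)) (Ideal.mul_mem_left _ _ (h2 _ hdu _ hdv)))
    (Ideal.mul_mem_left _ _ (h2 _ hdv _ hdv))

variable [IsAdicComplete (maximalIdeal S) S]

/-- The node can be put in the form `Q(x, y) = α`. -/
theorem exists_quadratic_normal_form (hres : ∀ y : S, ∃ c : R, y - algebraMap R S c ∈ maximalIdeal S)
    {u₀ v₀ : S} {a b c : R} (hd : IsUnit (b ^ 2 - 4 * a * c))
    (huv : qf a b c u₀ v₀ ∈ (maximalIdeal R).map (algebraMap R S))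
    (hgen : maximalIdeal S = Ideal.span {u₀, v₀} ⊔ (maximalIdeal R).map (algebraMap R S)) :
    ∃ (u v : S) (α : R), α ∈ maximalIdeal R ∧ u - u₀ ∈ (maximalIdeal R).map (algebraMap R S) ∧
      v - v₀ ∈ (maximalIdeal R).map (algebraMap R S) ∧ qf a b c u v = algebraMap R S α := by
  set I : Ideal S := (maximalIdeal R).map (algebraMap R S) with hI
  let P : ℕ → S × S × R → Prop := fun n t => t.1 - u₀ ∈ I ∧ t.2.1 - v₀ ∈ I ∧ t.2.2 ∈ maximalIdeal R ∧
    qf a b c t.1 t.2.1 - algebraMap R S t.2.2 ∈ (maximalIdeal R ^ (n + 1)).map (algebraMap R S)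
  have hP0 : P 0 (u₀, v₀, 0) := ⟨by simp, by simp, zero_mem _, by simpa [P] using huv⟩
  have hleI : ∀ n, (maximalIdeal R ^ (n + 1)).map (algebraMap R S) ≤ I := fun n =>
    Ideal.map_mono (Ideal.pow_le_self n.succ_ne_zero)
  have hstep : ∀ n t, P n t → ∃ t', P (n + 1) t' ∧
      t'.1 - t.1 ∈ I ^ (n + 1) ∧ t'.2.1 - t.2.1 ∈ I ^ (n + 1) ∧
      t'.2.2 - t.2.2 ∈ maximalIdeal R ^ (n + 1) := by
    rintro n ⟨u, v, α⟩ ⟨hu, hv, hα, h⟩
    obtain ⟨u', v', α', hu', hv', hα', h'⟩ := qf_step hres hgen hu hv hd h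
    refine ⟨(u', v', α'), ⟨?_, ?_, ?_, h'⟩, ?_, ?_, hα'⟩
    · simpa using add_mem (hleI n hu') hu
    · simpa using add_mem (hleI n hv') hv
    · simpa using add_mem (Ideal.pow_le_self n.succ_ne_zero hα') hα
    · rwa [hI, ← Ideal.map_pow]
    · rwa [hI, ← Ideal.map_pow]
  choose! next hnext using hstep
  let s : ℕ → S × S × R := fun n => Nat.rec (u₀, v₀, 0) (fun k t => next k t) n
  have hs : ∀ n, P n (s n) := fun n => by
    induction n with
    | zero => exact hP0
    | succ n ih => exact (hnext n _ ih).1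
  have hle : I ≤ maximalIdeal S := by rw [hgen]; exact le_sup_right
  have : IsAdicComplete I S := GrothLib.AdicExtra.isAdicComplete_of_le hle I.fg_of_isNoetherianRing
  have lim : ∀ {T : Type u} [CommRing T] (J : Ideal T) [IsAdicComplete J T] (x : ℕ → T),
      (∀ n, x (n + 1) - x n ∈ J ^ (n + 1)) → ∃ L, ∀ n, L - x n ∈ J ^ n := by
    intro T _ J _ x hx
    have hx' : ∀ {m n : ℕ}, m ≤ n → x n - x m ∈ J ^ m := by
      intro m n hmn
      induction hmn with
      | refl => simp
      | @step k hk ih =>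
        have := add_mem (Ideal.pow_le_pow_right (Nat.le.step hk) (hx k)) ih
        simpa using this
    obtain ⟨L, hL⟩ := IsPrecomplete.prec (I := J) inferInstance (f := x) fun {m n} hmn => by
      rw [SModEq.sub_mem, smul_eq_mul, Ideal.mul_top]
      simpa using neg_mem (hx' hmn)
    refine ⟨L, fun n => ?_⟩
    have := hL n
    rw [SModEq.sub_mem, smul_eq_mul, Ideal.mul_top] at this
    simpa using neg_mem this
  obtain ⟨u, hu⟩ := lim I (fun n => (s n).1) fun n => (hnext n _ (hs n)).2.1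
  obtain ⟨v, hv⟩ := lim I (fun n => (s n).2.1) fun n => (hnext n _ (hs n)).2.2.1
  obtain ⟨α, hα⟩ := lim (maximalIdeal R) (fun n => (s n).2.2) fun n => (hnext n _ (hs n)).2.2.2
  refine ⟨u, v, α, ?_, ?_, ?_, ?_⟩
  · simpa using add_mem (show α - (s 1).2.2 ∈ maximalIdeal R by simpa using hα 1) (hs 1).2.2.1
  · simpa using add_mem (show u - (s 1).1 ∈ I by simpa using hu 1) (hs 1).1
  · simpa using add_mem (show v - (s 1).2.1 ∈ I by simpa using hv 1) (hs 1).2.1
  refine sub_eq_zero.1 (IsHausdorff.haus (I := I) inferInstance _ fun n => ?_)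
  rw [SModEq.sub_mem, sub_zero, smul_eq_mul, Ideal.mul_top]
  have h1 : qf a b c (s n).1 (s n).2.1 - algebraMap R S (s n).2.2 ∈ I ^ n := by
    rw [hI, ← Ideal.map_pow]
    exact Ideal.map_mono (Ideal.pow_le_pow_right n.le_succ) (hs n).2.2.2
  have h2 : algebraMap R S (α - (s n).2.2) ∈ I ^ n := by
    rw [hI, ← Ideal.map_pow]; exact Ideal.mem_map_of_mem _ (hα n)
  have key : qf a b c u v - algebraMap R S α = (qf a b c (s n).1 (s n).2.1 - algebraMap R S (s n).2.2) +
      (u - (s n).1) * (algebraMap R S a * (u + (s n).1) + algebraMap R S b * v) +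
      (algebraMap R S b * (s n).1 + algebraMap R S c * (v + (s n).2.1)) * (v - (s n).2.1) -
      algebraMap R S (α - (s n).2.2) := by
    rw [map_sub]; simp only [qf]; ring
  rw [key]
  exact sub_mem (add_mem (add_mem h1 (Ideal.mul_mem_right _ _ (hu n)))
    (Ideal.mul_mem_left _ _ (hv n))) h2

end GrothLib.NodeCpl11
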